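import Mathlib

/-!
# The table for `Sp₄(3)` (S3831, T4b; helper874)
-/

set_option autoImplicit false

namespace Cfsg.Agent.H874.SNX

/-- the matrices -/
abbrev M4 := Matrix (Fin 4) (Fin 4) (ZMod 3)

def A1 : M4 := !![1, 0, 0, 0; 1, 1, 0, 0; 0, 0, 1, 0; 0, 0, 1, 1]
def B1 : M4 := !![1, 2, 0, 0; 0, 1, 0, 0; 0, 0, 1, 2; 0, 0, 0, 1]
def A2 : M4 := !![1, 0, 0, 0; 0, 1, 0, 0; 0, 1, 1, 0; 0, 0, 0, 1]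
def B2 : M4 := !![1, 0, 0, 0; 0, 1, 2, 0; 0, 0, 1, 0; 0, 0, 0, 1]

/-- the four generators -/
def gen : Fin 4 → M4 := ![A1, B1, A2, B2]

/-- the Siegel radical -/
def SB (a b c : ZMod 3) : M4 := !![1, 0, 0, 0; 0, 1, 0, 0; b, a, 1, 0; c, -b, 0, 1]

/-- words in the generators -/
def words : Fin 8 → List (Fin 4) := ![[0, 1, 3, 1, 3], [0, 1, 3, 3, 1, 3, 3], [0, 3, 1, 3, 3, 1, 3], [0, 0, 3, 3, 1, 2, 0, 3, 1, 2], [1, 2, 2, 0, 3, 1, 3, 2], [1, 0, 3, 1, 2, 0, 0, 3, 3, 2], [0, 1, 1, 0, 3, 1, 0, 3], [0, 1, 3, 1, 0, 3, 3, 1, 0]]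

/-- their values -/
def tm : Fin 8 → M4 := ![
  !![1, 1, 0, 2; 1, 2, 1, 0; 0, 0, 1, 1; 0, 0, 1, 2],
  !![1, 1, 0, 1; 1, 2, 2, 0; 0, 0, 1, 1; 0, 0, 1, 2],
  !![1, 1, 1, 1; 1, 2, 0, 2; 0, 0, 1, 1; 0, 0, 1, 2],
  !![0, 0, 1, 2; 2, 1, 0, 2; 1, 2, 2, 0; 2, 2, 2, 0],
  !![0, 1, 2, 2; 1, 2, 2, 1; 2, 1, 1, 1; 0, 1, 1, 0],
  !![0, 2, 2, 2; 2, 2, 0, 1; 0, 1, 1, 2; 2, 0, 2, 0],
  !![1, 2, 1, 1; 2, 2, 1, 2; 0, 0, 1, 2; 0, 0, 2, 2],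
  !![1, 2, 2, 1; 2, 2, 0, 1; 0, 0, 1, 2; 0, 0, 2, 2]]

theorem ev_words : ∀ k, ((words k).map gen).prod = tm k := by decide +kernel
theorem tm_sq : ∀ k, tm k * tm k = 1 ∨ tm k * tm k = -1 := by decide +kernel
theorem tm_ne : ∀ k, tm k ≠ 1 := by decide +kernel

/-- fifth power -/
def p5 (M : M4) : M4 := (M * M) * (M * M) * M

theorem table : ∀ (i : Fin 3) (a b c : ZMod 3), SB a b c * A1 ^ (i : ℕ) * (SB a b c * A1 ^ (i : ℕ) * (SB a b c * A1 ^ (i : ℕ))) = 1 →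
    (i ≠ 0 ∨ b * b + a * c ≠ 0) → ∃ k, p5 (SB a b c * A1 ^ (i : ℕ) * tm k) = 1 := by
  decide +kernel

end Cfsg.Agent.H874.SNX
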